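import Cfsg.Agent.H873.Tits.Stmts

/-!
# S3414: from `Pol` to permutation groups
-/

set_option autoImplicit false

namespace Cfsg.Agent.H873.Tits

universe u v

variable {G : Type u} [Group G] {V : Type v} [MulAction G V] {P : Pol G V}

theorem mem_img {v : V} {X : Subgroup G} {f : Equiv.Perm {w : V // P.adj v w}} :
    f ∈ P.img v X ↔ ∃ g ∈ X, ∃ hg : g ∈ P.S v, P.toPerm v ⟨g, hg⟩ = f := by
  unfold Pol.img
  rw [Subgroup.mem_map]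
  constructor
  · rintro ⟨⟨g, hg⟩, hX, rfl⟩
    exact ⟨g, Subgroup.mem_subgroupOf.1 hX, hg, rfl⟩
  · rintro ⟨g, hX, hg, rfl⟩
    exact ⟨⟨g, hg⟩, Subgroup.mem_subgroupOf.2 hX, rfl⟩

theorem mem_L {v : V} {f : Equiv.Perm {w : V // P.adj v w}} :
    f ∈ P.L v ↔ ∃ g, ∃ hg : g ∈ P.S v, P.toPerm v ⟨g, hg⟩ = f := by
  unfold Pol.L
  rw [mem_img]
  constructor
  · rintro ⟨g, _, hg, h⟩; exact ⟨g, hg, h⟩
  · rintro ⟨g, hg, h⟩; exact ⟨g, hg, hg, h⟩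

theorem img_mono {v : V} {X Y : Subgroup G} (h : X ≤ Y) : P.img v X ≤ P.img v Y := by
  intro f hf
  obtain ⟨g, hg, hg', e⟩ := mem_img.1 hf
  exact mem_img.2 ⟨g, h hg, hg', e⟩

theorem img_le_L {v : V} (X : Subgroup G) : P.img v X ≤ P.L v := by
  intro f hf
  obtain ⟨g, hg, hg', e⟩ := mem_img.1 hf
  exact mem_L.2 ⟨g, hg', e⟩

theorem L'_le_L {v v' : V} : P.L' v v' ≤ P.L v := img_le_L _

theorem twoTr_L (F : Facts P) (v : V) : TwoTr (P.L v) := by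
  intro a b a' b' hab hab'
  obtain ⟨g, hg, h1, h2⟩ := F.two_trans a.2 b.2 (fun h => hab (Subtype.ext h)) a'.2 b'.2 (fun h => hab' (Subtype.ext h))
  exact ⟨P.toPerm v ⟨g, hg⟩, mem_L.2 ⟨g, hg, rfl⟩, Subtype.ext h1, Subtype.ext h2⟩

theorem twoTr_L' (F : Facts P) {v v' : V} (ho : P.Opp v v') : TwoTr (P.L' v v') := by
  intro a b a' b' hab hab'
  obtain ⟨g, hg, h1, h2⟩ := F.two_trans' ho a.2 b.2 (fun h => hab (Subtype.ext h)) a'.2 b'.2 (fun h => hab' (Subtype.ext h))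
  exact ⟨P.toPerm v ⟨g, hg.1⟩, mem_img.2 ⟨g, hg, hg.1, rfl⟩, Subtype.ext h1, Subtype.ext h2⟩

theorem mem_Stb {Ω : Type v} {L : Subgroup (Equiv.Perm Ω)} {a : Ω} {f : Equiv.Perm Ω} : f ∈ Stb L a ↔ f ∈ L ∧ f a = a := Iff.rfl

theorem stb_L {v w : V} (hw : P.adj v w) : Stb (P.L v) ⟨w, hw⟩ = P.img v (P.S w) := by
  ext f
  rw [mem_Stb]
  constructor
  · rintro ⟨hf, hfw⟩
    obtain ⟨g, hg, rfl⟩ := mem_L.1 hf
    exact mem_img.2 ⟨g, congrArg Subtype.val hfw, hg, rfl⟩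
  · intro hf
    obtain ⟨g, hgw, hg, rfl⟩ := mem_img.1 hf
    exact ⟨mem_L.2 ⟨g, hg, rfl⟩, Subtype.ext hgw⟩

theorem stb_stb_L {v y z : V} (hy : P.adj v y) (hz : P.adj v z) :
    Stb (P.L v) ⟨y, hy⟩ ⊓ Stb (P.L v) ⟨z, hz⟩ = P.img v (P.S y ⊓ P.S z) := by
  ext f
  rw [Subgroup.mem_inf, mem_Stb, mem_Stb]
  constructor
  · rintro ⟨⟨hf, hfy⟩, ⟨_, hfz⟩⟩
    obtain ⟨g, hg, rfl⟩ := mem_L.1 hf
    exact mem_img.2 ⟨g, ⟨congrArg Subtype.val hfy, congrArg Subtype.val hfz⟩, hg, rfl⟩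
  · intro hf
    obtain ⟨g, hgw, hg, rfl⟩ := mem_img.1 hf
    exact ⟨⟨mem_L.2 ⟨g, hg, rfl⟩, Subtype.ext hgw.1⟩, ⟨mem_L.2 ⟨g, hg, rfl⟩, Subtype.ext hgw.2⟩⟩

theorem T2_eq {v y z : V} (hy : P.adj v y) (hz : P.adj v z) :
    P.T2 v y z = Nat.card ↥(Stb (P.L v) ⟨y, hy⟩ ⊓ Stb (P.L v) ⟨z, hz⟩) := by
  rw [stb_stb_L]; rfl

theorem S_smul {v : V} {g : G} (hg : g ∈ P.S v) : g • v = v := hg

/-- the image in `L x` of a normal subgroup of `S y` contained in `K y` is normal in the stabilizer -/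
theorem img_normal {x y : V} (hxy : P.adj x y) {Q : Subgroup G} (hQ : Q ≤ P.K y) (hn : (Q.subgroupOf (P.S y)).Normal) :
    ((P.img x Q).subgroupOf (Stb (P.L x) ⟨y, hxy⟩)).Normal := by
  constructor
  rintro ⟨f, hf⟩ hfQ ⟨h, hh⟩
  rw [Subgroup.mem_subgroupOf] at hfQ ⊢
  rw [stb_L] at hh
  obtain ⟨g, hg, hg', e⟩ := mem_img.1 hfQ
  obtain ⟨k, hk, hk', e'⟩ := mem_img.1 hh
  refine mem_img.2 ⟨k * g * k⁻¹, ?_, mul_mem (mul_mem hk' hg') (inv_mem hk'), ?_⟩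
  · have := hn.conj_mem ⟨g, P.K_le_S y (hQ hg)⟩ (Subgroup.mem_subgroupOf.2 hg) ⟨k, hk⟩
    exact Subgroup.mem_subgroupOf.1 this
  · have e1 : f = P.toPerm x ⟨g, hg'⟩ := e.symm
    have e2 : h = P.toPerm x ⟨k, hk'⟩ := e'.symm
    subst e1 e2
    show P.toPerm x _ = P.toPerm x ⟨k, hk'⟩ * P.toPerm x ⟨g, hg'⟩ * (P.toPerm x ⟨k, hk'⟩)⁻¹
    rw [← map_inv, ← map_mul, ← map_mul]
    rfl

theorem img_pgroup {v : V} {Q : Subgroup G} {p : ℕ} (hp : IsPGroup p ↥Q) : IsPGroup p ↥(P.img v Q) := by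
  unfold Pol.img
  apply IsPGroup.map
  exact hp.comap_subtype

theorem img_ne_bot {x y : V} (hxy : P.adj x y) {Q : Subgroup G} (hQ : Q ≤ P.K y) (hQ' : ¬ Q ≤ P.K x) : P.img x Q ≠ ⊥ := by
  intro h
  apply hQ'
  intro g hg
  have hgx : g • x = x := (hQ hg).2 x (P.symm hxy)
  refine ⟨hgx, fun w hw => ?_⟩
  have : P.toPerm x ⟨g, hgx⟩ ∈ P.img x Q := mem_img.2 ⟨g, hg, hgx, rfl⟩
  rw [h, Subgroup.mem_bot] at this
  have := congrArg (fun f : Equiv.Perm {w : V // P.adj x w} => ((f ⟨w, hw⟩ : {w : V // P.adj x w}) : V)) this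
  exact this

/-- every vertex has at least three neighbours -/
theorem exists_other [Finite V] {x y : V} : ∃ z, P.adj x z ∧ y ≠ z := by
  by_contra hcon
  push Not at hcon
  have h1 : Nat.card {w : V // P.adj x w} ≤ 1 := by
    apply Finite.card_le_one_iff_subsingleton.2
    constructor
    intro a b
    exact Subtype.ext ((hcon a.1 a.2).symm.trans (hcon b.1 b.2))
  rw [P.card_nb x] at h1
  have := P.two_le (P.tp x)
  omega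

theorem lq [Finite V] (F : Facts P) {p : ℕ} (h : CaseA P p) {x y z : V} (hxy : P.adj x y) (hxz : P.adj x z) (hyz : y ≠ z) :
    ∃ Q, LQ (P.L x) (P.q (P.tp x)) p ⟨y, hxy⟩ ⟨z, hxz⟩ Q := by
  obtain ⟨Q, hQ, hn, hp, hx⟩ := h.big hxy
  refine ⟨P.img x Q, twoTr_L F x, P.card_nb x, P.two_le _, h.prime, fun e => hyz (congrArg Subtype.val e),
    img_ne_bot hxy hQ hx, ?_, img_normal hxy hQ hn, img_pgroup hp⟩
  rw [stb_L]
  exact img_mono (hQ.trans (P.K_le_S y))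

end Cfsg.Agent.H873.Tits
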