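import Cfsg.Agent.H873.Tits.Stmts

/-!
# S3414: the end step.  All parameters are powers of `p`, `T` is the simple normal subgroup.  Then `|T| < |T|_p ^ 3`.

`StEnd` follows from `StOut`, `StPath`, `StLoc`, `StNumE`, `StSmall` (assembly: helper873).
-/

set_option autoImplicit false

namespace Cfsg.Agent.H873.Tits

universe u v

/-- number of chambers of a generalized `n`-gon with parameters `s, t` -/
def ch (n s t : ℕ) : ℕ := (1 + s) * (1 + t) * ∑ i ∈ Finset.range (n / 2), (s * t) ^ i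

/-- further geometric facts (orders) -/
structure FactsE {G : Type u} [Group G] {V : Type v} [MulAction G V] (P : Pol G V) : Prop where
  /-- `|G| = c (st)^m |H|` -/
  card_G : ∀ {p : ℕ → V}, IsPath P.adj (P.n + 1) p →
    Nat.card G = ch P.n (P.q true) (P.q false) * (P.q true * P.q false) ^ (P.n / 2) * Nat.card ↥(P.H p)
  index_S : ∀ v : V, (P.S v).index * (1 + P.q (P.tp v)) = ch P.n (P.q true) (P.q false)
  index_B : ∀ {x y : V}, P.adj x y → (P.S x ⊓ P.S y).index = ch P.n (P.q true) (P.q false)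
  /-- `H` embeds in the product of the local two point stabilizers -/
  card_H : ∀ {p : ℕ → V}, IsPath P.adj (P.n + 1) p → Nat.card ↥(P.H p) ∣ P.T2 (p 1) (p 0) (p 2) * P.T2 (p 2) (p 1) (p 3)

/-- `L` has a non-abelian simple 2-transitive normal subgroup -/
def SimpTwo {Ω : Type v} (L : Subgroup (Equiv.Perm Ω)) : Prop :=
  ∃ X : Subgroup (Equiv.Perm Ω), X ≤ L ∧ (X.subgroupOf L).Normal ∧ IsSimpleGroup ↥X ∧ ¬ IsMulCommutative ↥X ∧ TwoTr X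

/-- `G / T` embeds in `Out T`, is solvable (Schreier, S5758) and `2 ^ |Out T| ≤ (G : S) ^ 3` for `S ≠ G`, `S T = G` (S5879, H934) -/
def StOut : Prop := ∀ {G : Type u} [Group G] [Finite G] (T : Subgroup G) [T.Normal] [IsSimpleGroup ↥T], ¬ IsMulCommutative ↥T →
  Subgroup.centralizer (T : Set G) = ⊥ →
  Group.IsSolvable (G ⧸ T) ∧ T.index ≤ Nat.card (Cfsg.Out ↥T) ∧
    ∀ S : Subgroup G, S ⊔ T = ⊤ → S ≠ ⊤ → 2 ^ Nat.card (Cfsg.Out ↥T) ≤ S.index ^ 3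

/-- if all `L' v v'` have a simple 2-transitive normal subgroup, then `T` is transitive on the `(n+1)`-paths:
`T ∩ S v ∩ S v'` induces a normal subgroup of `L' v v'` with solvable quotient, so it contains `X` and is 2-transitive. -/
def StPath : Prop := ∀ {G : Type u} [Group G] [Finite G] {V : Type v} [Finite V] [MulAction G V] (P : Pol G V), Facts P → FactsE P →
  ∀ (T : Subgroup G) [T.Normal], Group.IsSolvable (G ⧸ T) → (∀ v v' : V, P.Opp v v' → SimpTwo (P.L' v v')) →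
  ∀ {p : ℕ → V}, IsPath P.adj (P.n + 1) p → (P.S (p 0) ⊓ P.S (p 1)) ⊔ T = ⊤ →
  Nat.card ↥T = ch P.n (P.q true) (P.q false) * (P.q true * P.q false) ^ (P.n / 2) * Nat.card ↥(T ⊓ P.H p)

/-- divisibility for the orders of the two point stabilizers of a rank one group of degree `p ^ k + 1` -/
def TBd (p k T : ℕ) : Prop := T ∣ (p ^ k - 1) * k ∨ ∃ f, k = 3 * f ∧ T ∣ (p ^ (2 * f) - 1) * (2 * f)

/-- special local types of degree `p ^ k + 1`: affine of Fermat prime degree, affine of degree `9`, affine of degree `2 ^ d`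
(`p` a Mersenne prime), `PΓL_2(8)` of degree `28` -/
def Spec (p k T : ℕ) : Prop :=
  (p = 2 ∧ (2 ^ k + 1).Prime ∧ T = 1) ∨ (p = 2 ∧ k = 3 ∧ T ∣ 6) ∨ (k = 1 ∧ (∃ d, p + 1 = 2 ^ d) ∧ T ∣ p - 1) ∨
  (p = 3 ∧ k = 3 ∧ T ∣ 2)

/-- the local 2-transitive groups when `s = p ^ k` -/
def StLoc : Prop := ∀ {Ω : Type v} [Finite Ω] (L L' : Subgroup (Equiv.Perm Ω)) (s p k : ℕ) (a b : Ω) (Q : Subgroup (Equiv.Perm Ω)),
  LQ L s p a b Q → TwoTr L' → L' ≤ L → s = p ^ k → (∃ e, L'.relIndex L = p ^ e) →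
  ((2 ≤ k ∨ 5 ≤ p) ∧ SimpTwo L' ∧ TBd p k (Nat.card ↥(Stb L a ⊓ Stb L b))) ∨ Spec p k (Nat.card ↥(Stb L a ⊓ Stb L b))

/-- the small exceptions `(n, s, t, p, h)`, `s ≤ t`, `h` a multiple of the order of `H` -/
def smallList : List (ℕ × ℕ × ℕ × ℕ × ℕ) :=
  [(4, 2, 2, 2, 1), (4, 2, 4, 2, 6), (4, 4, 4, 2, 36), (4, 4, 8, 2, 252), (4, 4, 16, 2, 360), (4, 8, 8, 2, 1764),
   (4, 8, 64, 2, 158760), (6, 2, 2, 2, 1), (6, 2, 8, 2, 42), (8, 2, 4, 2, 6), (4, 3, 3, 3, 4), (4, 3, 9, 3, 32)]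

/-- numerical part: `a` belongs to a special type; `M = |T|`, `h = |H|`, `u` the `p`-part of `|G : T|`. -/
def StNumE : Prop := ∀ {n p a b h Tx Ty M u : ℕ}, (n = 4 ∨ n = 6 ∨ n = 8) → p.Prime → 1 ≤ a → 1 ≤ b →
  ((n = 4 ∨ n = 8) → p ^ a ≤ (p ^ b) ^ 2 ∧ p ^ b ≤ (p ^ a) ^ 2) → (n = 6 → p ^ a ≤ (p ^ b) ^ 3 ∧ p ^ b ≤ (p ^ a) ^ 3) →
  (n = 4 → (p ^ a + p ^ b) ∣ 2 * p ^ a * p ^ b * (1 + p ^ a) * (1 + p ^ b)) →
  (n = 6 → ∃ g : ℕ, p ^ a * p ^ b = g ^ 2) → (n = 8 → ∃ g : ℕ, 2 * p ^ a * p ^ b = g ^ 2) →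
  Spec p a Tx → (Spec p b Ty ∨ ((2 ≤ b ∨ 5 ≤ p) ∧ TBd p b Ty)) → h ∣ Tx * Ty → 0 < Tx → 0 < Ty → 0 < M →
  2 ^ u * (1 + p ^ a) ^ 3 ≤ ch n (p ^ a) (p ^ b) ^ 3 → 2 ^ u * (1 + p ^ b) ^ 3 ≤ ch n (p ^ a) (p ^ b) ^ 3 →
  M ∣ ch n (p ^ a) (p ^ b) * (p ^ a * p ^ b) ^ (n / 2) * h →
  u * p ^ M.factorization p = (p ^ a * p ^ b) ^ (n / 2) * p ^ h.factorization p →
  M < p ^ (3 * M.factorization p) ∨
    ∃ x ∈ smallList, x.1 = n ∧ x.2.2.2.1 = p ∧ h ∣ x.2.2.2.2 ∧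
      ((x.2.1 = p ^ a ∧ x.2.2.1 = p ^ b) ∨ (x.2.1 = p ^ b ∧ x.2.2.1 = p ^ a))

/-- the small exceptions, by the orders of the known simple groups (`OrdDiv.exists_real_filter`) and their outer automorphism groups -/
def StSmall : Prop := ∀ (T : Type u) [Group T] [Finite T] [IsSimpleGroup T], ¬ IsMulCommutative T →
  ∀ x ∈ smallList, ∀ u : ℕ, ch x.1 x.2.1 x.2.2.1 ∣ Nat.card T →
  Nat.card T ∣ ch x.1 x.2.1 x.2.2.1 * (x.2.1 * x.2.2.1) ^ (x.1 / 2) * x.2.2.2.2 →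
  (x.2.1 * x.2.2.1) ^ (x.1 / 2) ≤ u * x.2.2.2.1 ^ (Nat.card T).factorization x.2.2.2.1 →
  u ≤ Nat.card (Cfsg.Out T) → 2 ^ u * (1 + x.2.1) ^ 3 ≤ ch x.1 x.2.1 x.2.2.1 ^ 3 → 2 ^ u * (1 + x.2.2.1) ^ 3 ≤ ch x.1 x.2.1 x.2.2.1 ^ 3 →
  Nat.card T < x.2.2.2.1 ^ (3 * (Nat.card T).factorization x.2.2.2.1)

/-- **the end step, local part** -/
def StEnd : Prop := ∀ {G : Type u} [Group G] [Finite G] {V : Type v} [Finite V] [MulAction G V] (P : Pol G V), Facts P → FactsE P →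
  Num P → ∀ {p : ℕ}, CaseA P p → Powers P p → ∀ (T : Subgroup G) [T.Normal] [IsSimpleGroup ↥T], ¬ IsMulCommutative ↥T →
  Subgroup.centralizer (T : Set G) = ⊥ → (∀ {x y : V}, P.adj x y → (P.S x ⊓ P.S y) ⊔ T = ⊤) →
  Nat.card ↥T < p ^ (3 * (Nat.card ↥T).factorization p)

/-- case (B) with all parameters powers of `p` is impossible -/
def StBPow : Prop := ∀ {G : Type u} [Group G] [Finite G] {V : Type v} [Finite V] [MulAction G V] (P : Pol G V), Facts P → Num P →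
  NoOdd G → ∀ {b : Bool}, CaseB P b → ∀ {p : ℕ}, Powers P p → False

end Cfsg.Agent.H873.Tits
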