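import Cfsg.Agent.H873.Tits.Facts
import Cfsg.Prelude

/-!
# S3414: statements of the pieces

Every piece `StXxx : Prop` is proved in some file as `theorem ... : StXxx.{u, v}` (or with the variables explicit).
-/

set_option autoImplicit false

namespace Cfsg.Agent.H873.Tits

universe u v

/-! ## Key lemma -/

/-- K1 + K3: `L y` affine.  `s_r ≤ (i_x)_r`. -/
def StKeyAff : Prop := ∀ {G : Type u} [Group G] [Finite G] {V : Type v} [Finite V] [MulAction G V] (P : Pol G V), Facts P →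
  ∀ {p : ℕ}, CaseA P p → ∀ {x y x' : V}, P.adj x y → P.Opp x x' → ∀ {r : ℕ}, r.Prime → r ≠ p → Aff (P.L y) →
  (r ≠ 2 ∨ ¬ 2 ∣ P.q (P.tp y) + 1 ∨ ¬ 2 ∣ Nat.card ↥(P.K y)) →
  (P.q (P.tp x)).factorization r ≤ (P.idx x x').factorization r

/-- the two points `a ≠ b` can be swapped in `X` -/
def Swap {Ω : Type v} (X : Subgroup (Equiv.Perm Ω)) : Prop := ∀ a b : Ω, a ≠ b → ∃ τ ∈ X, τ a = b ∧ τ b = a

/-- K2: the non-affine case with `soc (L y) ≤ L' y`.  `s_r ≤ (T_x)_r`. -/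
def StKeyNonaff : Prop := ∀ {G : Type u} [Group G] [Finite G] {V : Type v} [Finite V] [MulAction G V] (P : Pol G V), Facts P →
  ∀ {p : ℕ}, CaseA P p → ∀ {x y y' z : V}, P.adj x y → P.adj x z → y ≠ z → P.Opp y y' → ∀ {r : ℕ}, r.Prime → r ≠ p →
  ∀ X : Subgroup (Equiv.Perm {w : V // P.adj y w}), X ≤ P.L' y y' → (X.subgroupOf (P.L y)).Normal → Swap X →
  (∀ N : Subgroup (Equiv.Perm {w : V // P.adj y w}), N ≤ P.L y → (N.subgroupOf (P.L y)).Normal → N ≠ ⊥ → X ≤ N) →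
  (r ≠ 2 ∨ ¬ 2 ∣ Nat.card ↥(P.K y)) →
  (P.q (P.tp x)).factorization r ≤ (P.T2 x y z).factorization r

/-- K0: `r` does not divide `i_y`: `s_r ≤ (T_x)_r`. -/
def StKeyEasy : Prop := ∀ {G : Type u} [Group G] [Finite G] {V : Type v} [Finite V] [MulAction G V] (P : Pol G V), Facts P →
  ∀ {p : ℕ}, CaseA P p → ∀ {x y y' z : V}, P.adj x y → P.adj x z → y ≠ z → P.Opp y y' → ∀ {r : ℕ}, r.Prime → r ≠ p →
  ¬ r ∣ P.idx y y' → (P.q (P.tp x)).factorization r ≤ (P.T2 x y z).factorization r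

/-- `G` has no non-trivial normal subgroup of odd order and trivial center -/
def NoOdd (G : Type u) [Group G] : Prop :=
  (∀ N : Subgroup G, N.Normal → ¬ 2 ∣ Nat.card ↥N → N = ⊥) ∧ Subgroup.center G = ⊥

/-- Z*: `p` odd, `L x` affine of odd degree: `K y` has odd order. -/
def StZstar : Prop := ∀ {G : Type u} [Group G] [Finite G] {V : Type v} [Finite V] [MulAction G V] (P : Pol G V), Facts P →
  NoOdd G → ∀ {p : ℕ}, CaseA P p → p ≠ 2 → ∀ {x y : V}, P.adj x y → Aff (P.L x) → 2 ∣ P.q (P.tp x) → ¬ 2 ∣ Nat.card ↥(P.K y)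

/-- (*): in case (A) the stabilizers in `K y` of the `O_p (K y)`-orbits on the `w ~ x`, `w ≠ y`, coincide. -/
def StStar : Prop := ∀ {G : Type u} [Group G] [Finite G] {V : Type v} [Finite V] [MulAction G V] (P : Pol G V), Facts P →
  ∀ {p : ℕ}, CaseA P p → ∀ {x y w₁ w₂ : V}, P.adj x y → P.adj x w₁ → w₁ ≠ y → P.adj x w₂ → w₂ ≠ y →
  ∀ Q : Subgroup G, Q ≤ P.K y → (Q.subgroupOf (P.S y)).Normal → IsPGroup p ↥Q →
  (∀ Q' : Subgroup G, Q' ≤ P.K y → (Q'.subgroupOf (P.S y)).Normal → IsPGroup p ↥Q' → Q' ≤ Q) →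
  ∀ g ∈ P.K y, (∃ a ∈ Q, g • w₁ = a • w₁) → ∃ b ∈ Q, g • w₂ = b • w₂

/-! ## 2-transitive groups -/

/-- 2-transitive permutation group -/
def TwoTr {Ω : Type v} (L : Subgroup (Equiv.Perm Ω)) : Prop :=
  ∀ a b a' b' : Ω, a ≠ b → a' ≠ b' → ∃ g ∈ L, g a = a' ∧ g b = b'

/-- the stabilizer of `a` in `L`, as a subgroup of `Perm Ω` -/
def Stb {Ω : Type v} (L : Subgroup (Equiv.Perm Ω)) (a : Ω) : Subgroup (Equiv.Perm Ω) :=
  L ⊓ MulAction.stabilizer (Equiv.Perm Ω) a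

/-- `PSL_d(F)`, `d ≥ 3`, `char F = p`, is a normal subgroup of `L` and the degree is `(|F|^d - 1)/(|F| - 1)` -/
def PSLType {Ω : Type v} (L : Subgroup (Equiv.Perm Ω)) (p d f : ℕ) : Prop :=
  3 ≤ d ∧ 1 ≤ f ∧ p.Prime ∧ Nat.card Ω * (p ^ f - 1) = (p ^ f) ^ d - 1 ∧
    ∃ X : Subgroup (Equiv.Perm Ω), X ≤ L ∧ (X.subgroupOf L).Normal ∧
      (∀ N : Subgroup (Equiv.Perm Ω), N ≤ L → (N.subgroupOf L).Normal → N ≠ ⊥ → X ≤ N) ∧
      ∃ (F : Type) (_ : Field F) (_ : Fintype F), Fintype.card F = p ^ f ∧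
        Nonempty (X ≃* Matrix.ProjectiveSpecialLinearGroup (Fin d) F)

/-- common hypotheses: `L` is 2-transitive on `s + 1 ≥ 3` points and the stabilizer of `a` has a normal `p`-subgroup `Q ≠ 1` -/
structure LQ {Ω : Type v} (L : Subgroup (Equiv.Perm Ω)) (s p : ℕ) (a b : Ω) (Q : Subgroup (Equiv.Perm Ω)) : Prop where
  two : TwoTr L
  card : Nat.card Ω = s + 1
  two_le : 2 ≤ s
  prime : p.Prime
  ne : a ≠ b
  Q_ne : Q ≠ ⊥
  Q_le : Q ≤ Stb L a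
  Q_normal : (Q.subgroupOf (Stb L a)).Normal
  Q_p : IsPGroup p ↥Q

/-- TAB1a: the non-affine 2-transitive groups with `O_p (L_a) ≠ 1` -/
def StTab1a : Prop := ∀ {Ω : Type v} [Finite Ω] (L : Subgroup (Equiv.Perm Ω)) (s p : ℕ) (a b : Ω) (Q : Subgroup (Equiv.Perm Ω)),
  LQ L s p a b Q → ¬ Aff L → (∃ k : ℕ, s = p ^ k) ∨ ∃ d f, PSLType L p d f

/-- TAB1b: `PSL_d(q)`, `d ≥ 3`: there is an odd prime `r ≠ p` with `s_r > T_r`, except for `PSL_3(p)`, `p + 1 = 2 ^ k`, and `PSL_7(2)` -/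
def StTab1b : Prop := ∀ {Ω : Type v} [Finite Ω] (L : Subgroup (Equiv.Perm Ω)) (s p : ℕ) (a b : Ω) (Q : Subgroup (Equiv.Perm Ω)),
  LQ L s p a b Q → ∀ d f, PSLType L p d f →
  (∀ r : ℕ, r.Prime → r ≠ p → r ≠ 2 → s.factorization r ≤ (Nat.card ↥(Stb L a ⊓ Stb L b)).factorization r) →
  (d = 3 ∧ f = 1 ∧ ∃ k, p + 1 = 2 ^ k) ∨ (d = 7 ∧ f = 1 ∧ p = 2)

/-- TAB1c: the affine case -/
def StTab1c : Prop := ∀ {Ω : Type v} [Finite Ω] (L : Subgroup (Equiv.Perm Ω)) (s p : ℕ) (a b : Ω) (Q : Subgroup (Equiv.Perm Ω)),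
  LQ L s p a b Q → Aff L →
  (∀ r : ℕ, r.Prime → r ≠ p → s.factorization r ≤ (Nat.card ↥(Stb L a ⊓ Stb L b)).factorization r) →
  (∃ k : ℕ, s = p ^ k) ∨ (p = 2 ∧ ∃ r₀ k : ℕ, r₀.Prime ∧ 7 ≤ r₀ ∧ r₀ + 1 = 2 ^ k ∧ s + 1 = r₀ ^ 2)

/-- TAB2: `L' ≤ L` 2-transitive of degree `p ^ k + 1`, `L` not affine: `L'` contains the socle of `L`, or `S_5 > 5:4`
(`r` is a prime divisor of the index, `r ≠ p`) -/
def StTab2 : Prop := ∀ {Ω : Type v} [Finite Ω] (L L' : Subgroup (Equiv.Perm Ω)) (s p : ℕ) (a b : Ω) (Q : Subgroup (Equiv.Perm Ω)),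
  LQ L s p a b Q → TwoTr L' → L' ≤ L → (∃ k, s = p ^ k) → ¬ Aff L → ∀ {r : ℕ}, r.Prime → r ≠ p → r ∣ L'.relIndex L →
  (∃ X : Subgroup (Equiv.Perm Ω), X ≤ L' ∧ (X.subgroupOf L).Normal ∧ Swap X ∧
    ∀ N : Subgroup (Equiv.Perm Ω), N ≤ L → (N.subgroupOf L).Normal → N ≠ ⊥ → X ≤ N) ∨
  (s = 4 ∧ p = 2 ∧ r = 3 ∧ Nat.card ↥L = 120 ∧ Nat.card ↥L' = 20)

/-! ## Thompson-Wielandt and the two cases -/

def StTW : Prop := ∀ {G : Type u} [Group G] [Finite G] {V : Type v} [Finite V] [MulAction G V] (P : Pol G V), Facts P →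
  (∃ p, CaseA P p) ∨ ∃ b, CaseB P b

/-- all parameters are powers of `p` -/
def Powers {G : Type u} [Group G] {V : Type v} [MulAction G V] (P : Pol G V) (p : ℕ) : Prop :=
  p.Prime ∧ ∀ b, ∃ k, P.q b = p ^ k

/-- both types are of `PSL` type (characteristic `p`): impossible -/
def StPSLPSL : Prop := ∀ {G : Type u} [Group G] [Finite G] {V : Type v} [Finite V] [MulAction G V] (P : Pol G V), Facts P → Num P →
  ∀ {p : ℕ}, CaseA P p → ∀ {x y : V}, P.adj x y → ∀ d f d' f', PSLType (P.L x) p d f → PSLType (P.L y) p d' f' → False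

/-- E1: `PSL_3(p)`, `p + 1 = 2 ^ k`, the other type is affine or `t = p ^ k` -/
def StE1 : Prop := ∀ {G : Type u} [Group G] [Finite G] {V : Type v} [Finite V] [MulAction G V] (P : Pol G V), Facts P → Num P →
  NoOdd G → ∀ {p : ℕ}, CaseA P p → ∀ {x y : V}, P.adj x y → PSLType (P.L x) p 3 1 → (∃ k, p + 1 = 2 ^ k) →
  (Aff (P.L y) ∨ ∃ k, P.q (P.tp y) = p ^ k) → False

/-- E2: `PSL_7(2)` -/
def StE2 : Prop := ∀ {G : Type u} [Group G] [Finite G] {V : Type v} [Finite V] [MulAction G V] (P : Pol G V), Facts P → Num P →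
  CaseA P 2 → ∀ {x y : V}, P.adj x y → PSLType (P.L x) 2 7 1 →
  (Aff (P.L y) ∨ ∃ k, P.q (P.tp y) = 2 ^ k) → False

/-- E3: `L x` affine of degree `r₀ ^ 2`, `r₀ + 1 = 2 ^ k`, `r₀ ≥ 7`, `p = 2` -/
def StE3 : Prop := ∀ {G : Type u} [Group G] [Finite G] {V : Type v} [Finite V] [MulAction G V] (P : Pol G V), Facts P → Num P →
  NoOdd G → CaseA P 2 → ∀ {x y : V}, P.adj x y → Aff (P.L x) → ∀ {r₀ k : ℕ}, r₀.Prime → 7 ≤ r₀ → r₀ + 1 = 2 ^ k →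
  P.q (P.tp x) + 1 = r₀ ^ 2 → (Aff (P.L y) ∨ ∃ k, P.q (P.tp y) = 2 ^ k) → False

/-- E4: `L y = S_5`, `L' y = 5:4`: then `s` is a power of `2` -/
def StE4 : Prop := ∀ {G : Type u} [Group G] [Finite G] {V : Type v} [Finite V] [MulAction G V] (P : Pol G V), Facts P → Num P →
  CaseA P 2 → ∀ {x y y' : V}, P.adj x y → P.Opp y y' → P.q (P.tp y) = 4 → Nat.card ↥(P.L y) = 120 → Nat.card ↥(P.L' y y') = 20 →
  ∃ k, P.q (P.tp x) = 2 ^ k

/-- case (A) -/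
def StCaseA : Prop := ∀ {G : Type u} [Group G] [Finite G] {V : Type v} [Finite V] [MulAction G V] (P : Pol G V), Facts P → Num P →
  NoOdd G → ∀ {p : ℕ}, CaseA P p → Powers P p

/-- case (B) -/
def StCaseB : Prop := ∀ {G : Type u} [Group G] [Finite G] {V : Type v} [Finite V] [MulAction G V] (P : Pol G V), Facts P → Num P →
  NoOdd G → ∀ {b : Bool}, CaseB P b → ∃ p, Powers P p

end Cfsg.Agent.H873.Tits
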