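import Cfsg.Agent.H873.Tits.Bridge

/-!
# S3414: case (A) from the pieces
-/

set_option autoImplicit false

namespace Cfsg.Agent.H873.Tits

universe u v

section

variable {G : Type u} [Group G] [Finite G] {V : Type v} [Finite V] [MulAction G V] {P : Pol G V}

/-- `i_x` divides `T_x` -/
theorem idx_dvd_T2 (F : Facts P) {x x' y z : V} (ho : P.Opp x x') (hy : P.adj x y) (hz : P.adj x z) (hyz : y ≠ z) :
    P.idx x x' ∣ P.T2 x y z := by
  obtain ⟨p, hp, h1, h2, h3⟩ := F.extend3 (P.symm hy) hz hyz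
  have h := F.count_T2 (i := 1) ho hp (by have := P.hn; omega) h2
  rw [h1, h3] at h
  have hpos : 0 < Nat.card ↥(P.K x ⊓ P.H p) := Nat.card_pos
  have hdvd : Nat.card ↥(P.K x ⊓ P.H p) ∣ Nat.card ↥(P.H p) := Subgroup.card_dvd_of_le inf_le_right
  obtain ⟨c, hc⟩ := hdvd
  rw [hc] at h
  refine ⟨c, ?_⟩
  have : P.T2 x y z * Nat.card ↥(P.K x ⊓ P.H p) = (P.idx x x' * c) * Nat.card ↥(P.K x ⊓ P.H p) := by
    rw [h]; ring
  exact Nat.eq_of_mul_eq_mul_right hpos this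

theorem T2_ne_zero {x y z : V} : P.T2 x y z ≠ 0 := Nat.card_pos.ne'

theorem factorization_idx_le (F : Facts P) {x x' y z : V} (ho : P.Opp x x') (hy : P.adj x y) (hz : P.adj x z) (hyz : y ≠ z) (r : ℕ) :
    (P.idx x x').factorization r ≤ (P.T2 x y z).factorization r :=
  (Nat.factorization_le_iff_dvd (fun h0 => T2_ne_zero (Nat.eq_zero_of_zero_dvd (h0 ▸ idx_dvd_T2 F ho hy hz hyz)))
    T2_ne_zero).2 (idx_dvd_T2 F ho hy hz hyz) r

end

/-- the classification of the local types in case (A) -/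
theorem type_of (h1a : StTab1a.{v}) {G : Type u} [Group G] [Finite G] {V : Type v} [Finite V] [MulAction G V] {P : Pol G V} (F : Facts P)
    {p : ℕ} (h : CaseA P p) (x : V) : (∃ k, P.q (P.tp x) = p ^ k) ∨ Aff (P.L x) ∨ ∃ d f, PSLType (P.L x) p d f := by
  obtain ⟨y, hy, -⟩ := exists_other (P := P) (x := x) (y := x)
  obtain ⟨z, hz, hyz⟩ := exists_other (P := P) (x := x) (y := y)
  obtain ⟨Q, hQ⟩ := lq F h hy hz hyz
  by_cases ha : Aff (P.L x)
  · exact Or.inr (Or.inl ha)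
  · rcases h1a (P.L x) _ _ _ _ _ hQ ha with h' | h'
    · exact Or.inl h'
    · exact Or.inr (Or.inr h')

theorem key_all (hKA : StKeyAff.{u, v}) (hKN : StKeyNonaff.{u, v}) (hK0 : StKeyEasy.{u, v}) (hZ : StZstar.{u, v})
    (h2 : StTab2.{v}) (hE4 : StE4.{u, v})
    {G : Type u} [Group G] [Finite G] {V : Type v} [Finite V] [MulAction G V] {P : Pol G V} (F : Facts P) (N : Num P)
    (hO : NoOdd G) {p : ℕ} (h : CaseA P p) {x y z : V} (hxy : P.adj x y) (hxz : P.adj x z) (hyz : y ≠ z)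
    (hy : Aff (P.L y) ∨ ∃ k, P.q (P.tp y) = p ^ k) {r : ℕ} (hr : r.Prime) (hrp : r ≠ p) (hr2 : r ≠ 2 ∨ Aff (P.L x)) :
    (P.q (P.tp x)).factorization r ≤ (P.T2 x y z).factorization r := by
  obtain ⟨x', hx'⟩ := F.exists_opp x
  obtain ⟨y', hy'⟩ := F.exists_opp y
  by_cases h0 : (P.q (P.tp x)).factorization r = 0
  · rw [h0]; exact Nat.zero_le _
  have hrd : r ∣ P.q (P.tp x) := Nat.dvd_of_factorization_pos h0
  have hodd : r ≠ 2 ∨ ¬ 2 ∣ Nat.card ↥(P.K y) := by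
    by_cases hr2' : r = 2
    · right
      subst hr2'
      exact hZ P F hO h (Ne.symm hrp) hxy (hr2.resolve_left (fun h => h rfl)) hrd
    · exact Or.inl hr2'
  by_cases hay : Aff (P.L y)
  · refine (hKA P F h hxy hx' hr hrp hay ?_).trans (factorization_idx_le F hx' hxy hxz hyz r)
    rcases hodd with h' | h'
    · exact Or.inl h'
    · exact Or.inr (Or.inr h')
  · obtain ⟨k, hk⟩ := hy.resolve_left hay
    by_cases hri : r ∣ P.idx y y'
    · obtain ⟨z', hz', hxz'⟩ := exists_other (P := P) (x := y) (y := x)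
      obtain ⟨Q, hQ⟩ := lq F h (P.symm hxy) hz' hxz'
      rcases h2 (P.L y) (P.L' y y') _ _ _ _ _ hQ (twoTr_L' F hy') L'_le_L ⟨k, hk⟩ hay hr hrp hri with
        ⟨X, hX1, hX2, hX3, hX4⟩ | ⟨e1, e2, e3, e4, e5⟩
      · exact hKN P F h hxy hxz hyz hy' hr hrp X hX1 hX2 hX3 hX4 hodd
      · subst e2
        obtain ⟨l, hl⟩ := hE4 P F N h hxy hy' e1 e4 e5
        rw [hl] at hrd
        have := (Nat.prime_dvd_prime_iff_eq hr Nat.prime_two).1 (hr.dvd_of_dvd_pow hrd)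
        exact absurd this hrp
    · exact hK0 P F h hxy hxz hyz hy' hr hrp hri

theorem no_psl (hKA : StKeyAff.{u, v}) (hKN : StKeyNonaff.{u, v}) (hK0 : StKeyEasy.{u, v}) (hZ : StZstar.{u, v})
    (h1a : StTab1a.{v}) (h1b : StTab1b.{v}) (h2 : StTab2.{v}) (hPP : StPSLPSL.{u, v}) (hE1 : StE1.{u, v}) (hE2 : StE2.{u, v})
    (hE4 : StE4.{u, v})
    {G : Type u} [Group G] [Finite G] {V : Type v} [Finite V] [MulAction G V] {P : Pol G V} (F : Facts P) (N : Num P)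
    (hO : NoOdd G) {p : ℕ} (h : CaseA P p) {x : V} {d f : ℕ} (hx : PSLType (P.L x) p d f) : False := by
  obtain ⟨y, hxy, -⟩ := exists_other (P := P) (x := x) (y := x)
  obtain ⟨z, hxz, hyz⟩ := exists_other (P := P) (x := x) (y := y)
  have hy : Aff (P.L y) ∨ ∃ k, P.q (P.tp y) = p ^ k := by
    rcases type_of h1a F h y with h' | h' | ⟨d', f', h'⟩
    · exact Or.inr h'
    · exact Or.inl h'
    · exact (hPP P F N h hxy d f d' f' hx h').elim
  obtain ⟨Q, hQ⟩ := lq F h hxy hxz hyz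
  rcases h1b (P.L x) _ _ _ _ _ hQ d f hx (fun r hr hrp hr2 => by
    rw [← T2_eq]
    exact key_all hKA hKN hK0 hZ h2 hE4 F N hO h hxy hxz hyz hy hr hrp (Or.inl hr2)) with ⟨rfl, rfl, h'⟩ | ⟨rfl, rfl, rfl⟩
  · exact hE1 P F N hO h hxy hx h' hy
  · exact hE2 P F N h hxy hx hy

theorem st_caseA_of (hKA : StKeyAff.{u, v}) (hKN : StKeyNonaff.{u, v}) (hK0 : StKeyEasy.{u, v}) (hZ : StZstar.{u, v})
    (h1a : StTab1a.{v}) (h1b : StTab1b.{v}) (h1c : StTab1c.{v}) (h2 : StTab2.{v}) (hPP : StPSLPSL.{u, v})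
    (hE1 : StE1.{u, v}) (hE2 : StE2.{u, v}) (hE3 : StE3.{u, v}) (hE4 : StE4.{u, v}) : StCaseA.{u, v} := by
  intro G _ _ V _ _ P F N hO p h
  have hty : ∀ x : V, Aff (P.L x) ∨ ∃ k, P.q (P.tp x) = p ^ k := by
    intro x
    rcases type_of h1a F h x with h' | h' | ⟨d, f, h'⟩
    · exact Or.inr h'
    · exact Or.inl h'
    · exact (no_psl hKA hKN hK0 hZ h1a h1b h2 hPP hE1 hE2 hE4 F N hO h h').elim
  have main : ∀ x : V, ∃ k, P.q (P.tp x) = p ^ k := by
    intro x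
    by_cases ha : Aff (P.L x)
    · obtain ⟨y, hxy, -⟩ := exists_other (P := P) (x := x) (y := x)
      obtain ⟨z, hxz, hyz⟩ := exists_other (P := P) (x := x) (y := y)
      obtain ⟨Q, hQ⟩ := lq F h hxy hxz hyz
      rcases h1c (P.L x) _ _ _ _ _ hQ ha (fun r hr hrp => by
        rw [← T2_eq]
        exact key_all hKA hKN hK0 hZ h2 hE4 F N hO h hxy hxz hyz (hty y) hr hrp (Or.inr ha)) with h' | ⟨rfl, r₀, k, e1, e2, e3, e4⟩
      · exact h'
      · exact (hE3 P F N hO h hxy ha e1 e2 e3 e4 (hty y)).elim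
    · exact (hty x).resolve_left ha
  refine ⟨h.prime, fun b => ?_⟩
  obtain ⟨v⟩ := P.nonempty
  obtain ⟨w, hvw, -⟩ := exists_other (P := P) (x := v) (y := v)
  have e := P.tp_adj hvw
  by_cases hb : P.tp v = b
  · rw [← hb]; exact main v
  · have : P.tp w = b := by
      rw [e]
      cases h1 : P.tp v <;> cases b <;> simp_all
    rw [← this]; exact main w

end Cfsg.Agent.H873.Tits
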