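import Cfsg.Agent.H873.Tits.AsmA
import Cfsg.Agent.H873.Tits.End

/-!
# S3414: the end step from its pieces
-/

set_option autoImplicit false

namespace Cfsg.Agent.H873.Tits

universe u v

theorem ch_comm (n s t : ℕ) : ch n s t = ch n t s := by
  unfold ch
  rw [mul_comm (1 + s) (1 + t)]
  congr 1
  apply Finset.sum_congr rfl
  intro i _
  rw [mul_comm s t]

theorem geo_sum (z : ℕ) (hz : 4 ≤ z) (m : ℕ) : 3 * (∑ i ∈ Finset.range (m + 1), z ^ i) < 4 * z ^ m := by
  induction m with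
  | zero => simp
  | succ m ih =>
    rw [Finset.sum_range_succ, mul_add]
    have : 4 * z ^ m ≤ z ^ (m + 1) := by rw [pow_succ, mul_comm]; exact Nat.mul_le_mul_left _ hz
    omega

/-- `c < 3 (st)^m` -/
theorem ch_lt {n s t : ℕ} (hn : 2 ≤ n) (hs : 2 ≤ s) (ht : 2 ≤ t) : ch n s t < 3 * (s * t) ^ (n / 2) := by
  unfold ch
  obtain ⟨m, hm⟩ : ∃ m, n / 2 = m + 1 := ⟨n / 2 - 1, by omega⟩
  rw [hm]
  have hz : 4 ≤ s * t := Nat.mul_le_mul hs ht
  have h4 := geo_sum (s * t) hz m
  have h2 : 4 * ((1 + s) * (1 + t)) ≤ 9 * (s * t) := by nlinarith [Nat.mul_le_mul hs ht]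
  have h5 : 12 * ((1 + s) * (1 + t) * ∑ i ∈ Finset.range (m + 1), (s * t) ^ i) < 36 * (s * t) ^ (m + 1) := by
    calc 12 * ((1 + s) * (1 + t) * ∑ i ∈ Finset.range (m + 1), (s * t) ^ i)
        = (4 * ((1 + s) * (1 + t))) * (3 * ∑ i ∈ Finset.range (m + 1), (s * t) ^ i) := by ring
      _ ≤ (9 * (s * t)) * (3 * ∑ i ∈ Finset.range (m + 1), (s * t) ^ i) := Nat.mul_le_mul_right _ h2
      _ < (9 * (s * t)) * (4 * (s * t) ^ m) := Nat.mul_lt_mul_of_pos_left h4 (by positivity)
      _ = 36 * (s * t) ^ (m + 1) := by ring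
  omega

theorem ch_pos (n s t : ℕ) (hn : 2 ≤ n) : 0 < ch n s t := by
  unfold ch
  have : 0 < ∑ i ∈ Finset.range (n / 2), (s * t) ^ i := by
    apply Finset.sum_pos'
    · intro i _; exact Nat.zero_le _
    · exact ⟨0, Finset.mem_range.2 (by omega), by simp⟩
  positivity

/-- `ch` is prime to `p` when `s, t` are powers of `p` -/
theorem ch_coprime {n s t p a b : ℕ} (hn : 2 ≤ n) (hp : p.Prime) (ha : 1 ≤ a) (hb : 1 ≤ b) (hs : s = p ^ a) (ht : t = p ^ b) :
    ¬ p ∣ ch n s t := by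
  intro h
  unfold ch at h
  have hps : p ∣ s := hs ▸ dvd_pow_self p (by omega)
  have hpt : p ∣ t := ht ▸ dvd_pow_self p (by omega)
  rcases (hp.dvd_mul).1 h with h | h
  · rcases (hp.dvd_mul).1 h with h | h
    · exact hp.one_lt.ne' (Nat.dvd_one.1 ((Nat.dvd_add_left hps).1 h))
    · exact hp.one_lt.ne' (Nat.dvd_one.1 ((Nat.dvd_add_left hpt).1 h))
  · obtain ⟨m, hm⟩ : ∃ m, n / 2 = m + 1 := ⟨n / 2 - 1, by omega⟩
    rw [hm, Finset.sum_range_succ', pow_zero] at h
    have h2 : p ∣ ∑ i ∈ Finset.range m, (s * t) ^ (i + 1) :=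
      Finset.dvd_sum fun i _ => (hps.mul_right t).trans (dvd_pow_self _ (by omega))
    exact hp.one_lt.ne' (Nat.dvd_one.1 ((Nat.dvd_add_right h2).1 h))

/-- bound for the two point stabilizers -/
theorem two_mul_le_of_TBd {p k T : ℕ} (hp : p.Prime) (hk : 1 ≤ k) (hT : TBd p k T) : 2 * T ≤ (p ^ k) ^ 2 := by
  have h2 := hp.two_le
  have hpow : ∀ j : ℕ, 2 * j ≤ p ^ j := fun j => by
    induction j with
    | zero => simp
    | succ j ih =>
      rcases Nat.eq_zero_or_pos j with rfl | hj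
      · simpa using h2
      · rw [pow_succ]
        nlinarith
  rcases hT with h | ⟨f, rfl, h⟩
  · have h1 : 0 < (p ^ k - 1) * k := by
      have : 2 ≤ p ^ k := le_trans h2 (Nat.le_self_pow (by omega) p)
      exact Nat.mul_pos (by omega) hk
    have h3 := Nat.le_of_dvd h1 h
    have h4 := hpow k
    have h5 : (p ^ k - 1) * (2 * k) ≤ p ^ k * p ^ k := Nat.mul_le_mul (Nat.sub_le _ _) h4
    nlinarith
  · have hf : 1 ≤ f := by omega
    have h1 : 0 < (p ^ (2 * f) - 1) * (2 * f) := by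
      have : 2 ≤ p ^ (2 * f) := le_trans h2 (Nat.le_self_pow (by omega) p)
      exact Nat.mul_pos (by omega) (by omega)
    have h3 := Nat.le_of_dvd h1 h
    have h4 := hpow (2 * f)
    have h5 : (p ^ (2 * f) - 1) * (2 * (2 * f)) ≤ p ^ (2 * f) * p ^ (2 * f) := Nat.mul_le_mul (Nat.sub_le _ _) h4
    have h6 : p ^ (2 * f) * p ^ (2 * f) ≤ (p ^ (3 * f)) ^ 2 := by
      rw [← pow_add, ← pow_mul]
      exact Nat.pow_le_pow_right (by omega) (by omega)
    nlinarith

theorem two_mul_le_of_Spec {p k T : ℕ} (hp : p.Prime) (hk : 1 ≤ k) (hT : Spec p k T) : 2 * T ≤ (p ^ k) ^ 2 := by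
  have h2 := hp.two_le
  rcases hT with ⟨rfl, -, rfl⟩ | ⟨rfl, rfl, h⟩ | ⟨rfl, -, h⟩ | ⟨rfl, rfl, h⟩
  · have : 2 ≤ 2 ^ k := Nat.le_self_pow (by omega) 2
    nlinarith
  · have := Nat.le_of_dvd (by norm_num) h
    norm_num
    omega
  · have := Nat.le_of_dvd (by omega) h
    rw [pow_one]
    have : T ≤ p := by omega
    nlinarith
  · have := Nat.le_of_dvd (by norm_num) h
    norm_num
    omega

/-- arithmetic of the path transitive case -/
theorem num_path {n s t p a b h M Tx Ty H : ℕ} (hn : 4 ≤ n) (hp : p.Prime) (ha : 1 ≤ a) (hb : 1 ≤ b) (hs : s = p ^ a) (ht : t = p ^ b)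
    (hM : M = ch n s t * (s * t) ^ (n / 2) * h) (hh : h ≤ H) (h0 : 0 < h) (hH : H ≤ Tx * Ty) (hx : 2 * Tx ≤ s ^ 2) (hy : 2 * Ty ≤ t ^ 2) :
    M < p ^ (3 * M.factorization p) := by
  have h2 := hp.two_le
  have hs2 : 2 ≤ s := hs ▸ le_trans h2 (Nat.le_self_pow (by omega) p)
  have ht2 : 2 ≤ t := ht ▸ le_trans h2 (Nat.le_self_pow (by omega) p)
  have hW : (s * t) ^ (n / 2) = p ^ ((a + b) * (n / 2)) := by rw [hs, ht, ← pow_add, ← pow_mul]
  have hch := ch_pos n s t (by omega)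
  have hchlt := ch_lt (n := n) (s := s) (t := t) (by omega) hs2 ht2
  have hcop := ch_coprime (n := n) (by omega) hp ha hb hs ht
  set c := ch n s t with hc
  set e := (a + b) * (n / 2) with he
  have hWpos : 0 < p ^ e := Nat.pow_pos (by omega)
  have hfac : M.factorization p = e + h.factorization p := by
    rw [hM, hW, Nat.factorization_mul (by positivity) (by omega), Nat.factorization_mul (by omega) (by positivity)]
    simp only [Finsupp.coe_add, Pi.add_apply]
    rw [Nat.factorization_eq_zero_of_not_dvd hcop, hp.factorization_pow]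
    simp
  have h4 : (s * t) ^ 2 ≤ p ^ e := by
    rw [← hW]
    exact Nat.pow_le_pow_right (by nlinarith) (by omega)
  have hhb : 4 * h ≤ p ^ e := by
    calc 4 * h ≤ 4 * (Tx * Ty) := Nat.mul_le_mul_left _ (hh.trans hH)
      _ = (2 * Tx) * (2 * Ty) := by ring
      _ ≤ s ^ 2 * t ^ 2 := Nat.mul_le_mul hx hy
      _ = (s * t) ^ 2 := by ring
      _ ≤ p ^ e := h4
  rw [hfac]
  have hple : 1 ≤ p ^ h.factorization p := Nat.one_le_pow _ _ (by omega)
  calc M = c * p ^ e * h := by rw [hM, hW]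
    _ < p ^ e * p ^ e * p ^ e := by
        have : c * h < p ^ e * p ^ e := by
          have h5 : c * (4 * h) < 3 * p ^ e * p ^ e + 1 := by
            have : c ≤ 3 * p ^ e := by rw [hW] at hchlt; omega
            have := Nat.mul_le_mul this hhb
            omega
          have h6 : 0 < p ^ e * p ^ e := by positivity
          nlinarith
        calc c * p ^ e * h = (c * h) * p ^ e := by ring
          _ < (p ^ e * p ^ e) * p ^ e := Nat.mul_lt_mul_of_pos_right this hWpos
    _ ≤ p ^ (3 * (e + h.factorization p)) := by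
        rw [← pow_add, ← pow_add]
        exact Nat.pow_le_pow_right (by omega) (by omega)

section

variable {G : Type u} [Group G] [Finite G] {V : Type v} [Finite V] [MulAction G V] {P : Pol G V}

omit [Finite V] in
/-- `i_x` is a power of `p` -/
theorem idx_pow (F : Facts P) {p : ℕ} (hP : Powers P p) {v v' : V} (ho : P.Opp v v') : ∃ e, P.idx v v' = p ^ e := by
  have h := F.count_opp ho
  have hd : Nat.card ↥(P.K v ⊓ P.S v') ∣ Nat.card ↥(P.K v) := Subgroup.card_dvd_of_le inf_le_left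
  obtain ⟨c, hc⟩ := hd
  have hpos : 0 < Nat.card ↥(P.K v ⊓ P.S v') := Nat.card_pos
  have h1 : P.idx v v' * c = P.q (P.tp v) ^ (P.n / 2 - 1) * P.q (!P.tp v) ^ (P.n / 2) := by
    apply Nat.eq_of_mul_eq_mul_right hpos
    rw [← h, hc]
    ring
  obtain ⟨a, ha⟩ := hP.2 (P.tp v)
  obtain ⟨b, hb⟩ := hP.2 (!P.tp v)
  rw [ha, hb, ← pow_mul, ← pow_mul, ← pow_add] at h1
  obtain ⟨e, -, he⟩ := (Nat.dvd_prime_pow hP.1).1 (Dvd.intro _ h1)
  exact ⟨e, he⟩

theorem index_eq_of_sup {B T : Subgroup G} [T.Normal] (h : B ⊔ T = ⊤) : B.index = B.relIndex T := by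
  have h1 : T.index = T.relIndex B := by rw [← Subgroup.relIndex_top_right, ← h, Subgroup.relIndex_sup_right]
  have h2 : (T ⊓ B).relIndex B * Nat.card ↥(T ⊓ B) = Nat.card ↥B := by
    rw [mul_comm, ← Subgroup.relIndex_bot_left, ← Subgroup.relIndex_bot_left B]
    exact Subgroup.relIndex_mul_relIndex _ _ _ bot_le inf_le_right
  have h3 : (B ⊓ T).relIndex T * Nat.card ↥(B ⊓ T) = Nat.card ↥T := by
    rw [mul_comm, ← Subgroup.relIndex_bot_left, ← Subgroup.relIndex_bot_left T]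
    exact Subgroup.relIndex_mul_relIndex _ _ _ bot_le inf_le_right
  rw [Subgroup.inf_relIndex_right] at h2 h3
  have h4 : T.index * Nat.card ↥T = Nat.card G := by rw [mul_comm]; exact T.card_mul_index
  have h5 : B.index * Nat.card ↥B = Nat.card G := by rw [mul_comm]; exact B.card_mul_index
  rw [inf_comm] at h3
  have hc : 0 < Nat.card ↥(T ⊓ B) := Nat.card_pos
  have hr : 0 < T.relIndex B := Nat.pos_of_ne_zero (by rw [← h1]; exact Subgroup.index_ne_zero_of_finite)
  rw [← h2, ← h4, ← h3, h1] at h5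
  have h6 : B.index * (T.relIndex B * Nat.card ↥(T ⊓ B)) = B.relIndex T * (T.relIndex B * Nat.card ↥(T ⊓ B)) := by
    rw [h5]; ring
  exact Nat.eq_of_mul_eq_mul_right (Nat.mul_pos hr hc) h6

theorem one_le_of_pow {p k q : ℕ} (hq : 2 ≤ q) (h : q = p ^ k) : 1 ≤ k := by
  rcases Nat.eq_zero_or_pos k with rfl | hk
  · rw [pow_zero] at h; omega
  · exact hk

theorem loc_at (hLoc : StLoc.{v}) (F : Facts P) {p : ℕ} (hA : CaseA P p) (hP : Powers P p) {v v' y z : V} (ho : P.Opp v v')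
    (hy : P.adj v y) (hz : P.adj v z) (hyz : y ≠ z) {k : ℕ} (hk : P.q (P.tp v) = p ^ k) :
    ((2 ≤ k ∨ 5 ≤ p) ∧ SimpTwo (P.L' v v') ∧ TBd p k (P.T2 v y z)) ∨ Spec p k (P.T2 v y z) := by
  obtain ⟨Q, hQ⟩ := lq F hA hy hz hyz
  have := hLoc (P.L v) (P.L' v v') _ p k _ _ Q hQ (twoTr_L' F ho) L'_le_L hk (idx_pow F hP ho)
  rwa [← T2_eq] at this

end

theorem st_end_of (hOut : StOut.{u}) (hPath : StPath.{u, v}) (hLoc : StLoc.{v}) (hNum : StNumE) (hSmall : StSmall.{u}) :
    StEnd.{u, v} := by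
  intro G _ _ V _ _ P F FE N p hA hP T _ _ hna hC htr
  obtain ⟨hsol, hidx, hout⟩ := hOut T hna hC
  have hp := hP.1
  have hn4 : 4 ≤ P.n := by have := P.hn; omega
  have hbd : ∀ {v v' y z : V}, P.Opp v v' → P.adj v y → P.adj v z → y ≠ z → 2 * P.T2 v y z ≤ P.q (P.tp v) ^ 2 := by
    intro v v' y z ho hy hz hyz
    obtain ⟨k, hk⟩ := hP.2 (P.tp v)
    have hk1 := one_le_of_pow (P.two_le _) hk
    rw [hk]
    rcases loc_at hLoc F hA hP ho hy hz hyz hk with ⟨-, -, h⟩ | h
    · exact two_mul_le_of_TBd hp hk1 h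
    · exact two_mul_le_of_Spec hp hk1 h
  by_cases hS : ∀ v v' : V, P.Opp v v' → SimpTwo (P.L' v v')
  · -- path transitive
    obtain ⟨x⟩ := P.nonempty
    obtain ⟨pp, hpp, hp0⟩ := F.extend (k := 0) (p := fun _ => x) (Nat.zero_le _) ⟨fun i hi => absurd hi (by omega), fun i hi => absurd hi (by omega)⟩
    have h01 : P.adj (pp 0) (pp 1) := hpp.1 0 (by omega)
    have h12 : P.adj (pp 1) (pp 2) := hpp.1 1 (by omega)
    have h23 : P.adj (pp 2) (pp 3) := hpp.1 2 (by omega)
    have h02 : pp 2 ≠ pp 0 := hpp.2 0 (by omega)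
    have h13 : pp 3 ≠ pp 1 := hpp.2 1 (by omega)
    have hT := hPath P F FE T hsol hS hpp (htr h01)
    obtain ⟨v1, hv1⟩ := F.exists_opp (pp 1)
    obtain ⟨v2, hv2⟩ := F.exists_opp (pp 2)
    have b1 := hbd hv1 (P.symm h01) h12 (Ne.symm h02)
    have b2 := hbd hv2 (P.symm h12) h23 (Ne.symm h13)
    have htp : P.tp (pp 2) = !P.tp (pp 1) := P.tp_adj h12
    obtain ⟨a, ha⟩ := hP.2 (P.tp (pp 1))
    obtain ⟨b, hb⟩ := hP.2 (!P.tp (pp 1))
    rw [htp] at b2
    have hch : ch P.n (P.q true) (P.q false) * (P.q true * P.q false) ^ (P.n / 2) =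
        ch P.n (P.q (P.tp (pp 1))) (P.q (!P.tp (pp 1))) * (P.q (P.tp (pp 1)) * P.q (!P.tp (pp 1))) ^ (P.n / 2) := by
      cases P.tp (pp 1)
      · rw [Bool.not_false, ch_comm, mul_comm (P.q true)]
      · rw [Bool.not_true]
    rw [hch] at hT
    refine num_path (n := P.n) (s := P.q (P.tp (pp 1))) (t := P.q (!P.tp (pp 1))) (a := a) (b := b) (h := Nat.card ↥(T ⊓ P.H pp))
      (Tx := P.T2 (pp 1) (pp 0) (pp 2)) (Ty := P.T2 (pp 2) (pp 1) (pp 3)) (H := Nat.card ↥(P.H pp)) hn4 hp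
      (one_le_of_pow (P.two_le _) ha) (one_le_of_pow (P.two_le _) hb) ha hb hT (Subgroup.card_le_of_le inf_le_right) Nat.card_pos
      (Nat.le_of_dvd (Nat.mul_pos Nat.card_pos Nat.card_pos) (FE.card_H hpp)) b1 b2
  · -- a special type
    push Not at hS
    obtain ⟨v, v', ho, hnS⟩ := hS
    obtain ⟨y, hy, -⟩ := exists_other (P := P) (x := v) (y := v)
    obtain ⟨w, hw, hvw⟩ := exists_other (P := P) (x := y) (y := v)
    obtain ⟨pp, hpp, h1, h2, h3⟩ := F.extend3 hy hw hvw
    have h01 : P.adj (pp 0) v := h1 ▸ hpp.1 0 (by omega)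
    have h02 : y ≠ pp 0 := h2 ▸ hpp.2 0 (by omega)
    obtain ⟨y', hy'⟩ := F.exists_opp y
    obtain ⟨a, ha⟩ := hP.2 (P.tp v)
    obtain ⟨b, hb⟩ := hP.2 (P.tp y)
    have htp : P.tp y = !P.tp v := P.tp_adj hy
    have hSpec : Spec p a (P.T2 v (pp 0) y) := by
      rcases loc_at hLoc F hA hP ho (P.symm h01) hy (Ne.symm h02) ha with ⟨-, h, -⟩ | h
      · exact absurd h hnS
      · exact h
    have hy2 : Spec p b (P.T2 y v w) ∨ ((2 ≤ b ∨ 5 ≤ p) ∧ TBd p b (P.T2 y v w)) := by
      rcases loc_at hLoc F hA hP hy' (P.symm hy) hw hvw hb with ⟨h, -, h'⟩ | h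
      · exact Or.inr ⟨h, h'⟩
      · exact Or.inl h
    have hcc : ch P.n (P.q true) (P.q false) = ch P.n (p ^ a) (p ^ b) := by
      rw [← ha, ← hb, htp]
      cases P.tp v
      · rw [Bool.not_false, ch_comm]
      · rw [Bool.not_true]
    have hst : P.q true * P.q false = p ^ a * p ^ b := by
      rw [← ha, ← hb, htp]
      cases P.tp v
      · rw [Bool.not_false, mul_comm]
      · rw [Bool.not_true]
    have hcard : Nat.card G = ch P.n (p ^ a) (p ^ b) * (p ^ a * p ^ b) ^ (P.n / 2) * Nat.card ↥(P.H pp) := by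
      rw [FE.card_G hpp, hcc, hst]
    have ha1 := one_le_of_pow (P.two_le _) ha
    have hb1 := one_le_of_pow (P.two_le _) hb
    have hST : ∀ z w : V, P.adj z w → P.S z ⊔ T = ⊤ := fun z w hzw => top_unique (htr hzw ▸ sup_le_sup_right inf_le_left T)
    have hSne : ∀ z : V, P.S z ≠ ⊤ := by
      intro z hz
      have h4 := FE.index_S z
      rw [hz, Subgroup.index_top, one_mul] at h4
      obtain ⟨m, hm⟩ : ∃ m, P.n / 2 = m + 1 := ⟨P.n / 2 - 1, by omega⟩
      have h5 : 1 ≤ ∑ i ∈ Finset.range (P.n / 2), (P.q true * P.q false) ^ i := by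
        rw [hm, Finset.sum_range_succ', pow_zero]
        omega
      have h6 := P.two_le true
      have h7 := P.two_le false
      unfold ch at h4
      have h8 : (1 + P.q true) * (1 + P.q false) ≤ 1 + P.q (P.tp z) := by
        rw [h4]
        exact Nat.le_mul_of_pos_right _ h5
      cases hz' : P.tp z <;> rw [hz'] at h8 <;> nlinarith
    set M := Nat.card ↥T with hMdef
    have hM0 : 0 < M := Nat.card_pos
    have hMG : T.index * M = Nat.card G := by rw [mul_comm]; exact T.card_mul_index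
    set u := p ^ (T.index).factorization p with hu
    have hi0 : T.index ≠ 0 := Subgroup.index_ne_zero_of_finite
    have hule : u ≤ T.index := Nat.ordProj_le p hi0
    have h0 : 0 < Nat.card ↥(P.H pp) := Nat.card_pos
    have hc0 := ch_pos P.n (p ^ a) (p ^ b) (by omega)
    have hcop := ch_coprime (n := P.n) (s := p ^ a) (t := p ^ b) (by omega) hp ha1 hb1 rfl rfl
    have hW : (p ^ a * p ^ b) ^ (P.n / 2) = p ^ ((a + b) * (P.n / 2)) := by rw [← pow_add, ← pow_mul]
    have hueq : u * p ^ M.factorization p = (p ^ a * p ^ b) ^ (P.n / 2) * p ^ (Nat.card ↥(P.H pp)).factorization p := by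
      have h4 : (T.index * M).factorization p = (T.index).factorization p + M.factorization p := by
        rw [Nat.factorization_mul hi0 hM0.ne']; rfl
      have hWpos : 0 < p ^ ((a + b) * (P.n / 2)) := Nat.pow_pos hp.pos
      have h5 : (Nat.card G).factorization p = (a + b) * (P.n / 2) + (Nat.card ↥(P.H pp)).factorization p := by
        rw [hcard, hW, Nat.factorization_mul (by positivity) (by omega), Nat.factorization_mul (by omega) (by positivity)]
        simp only [Finsupp.coe_add, Pi.add_apply]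
        rw [Nat.factorization_eq_zero_of_not_dvd hcop, hp.factorization_pow]
        simp
      rw [hu, ← pow_add, ← h4, hMG, h5, hW, ← pow_add]
    have h2u : 2 ^ u ≤ 2 ^ Nat.card (Cfsg.Out ↥T) := Nat.pow_le_pow_right (by norm_num) (hule.trans hidx)
    have hone : ∀ z : V, ∀ c : ℕ, P.q (P.tp z) = p ^ c → (∃ w, P.adj z w) → 2 ^ u * (1 + p ^ c) ^ 3 ≤ ch P.n (p ^ a) (p ^ b) ^ 3 := by
      rintro z c hc ⟨w, hzw⟩
      have h4 := hout (P.S z) (hST z w hzw) (hSne z)
      calc 2 ^ u * (1 + p ^ c) ^ 3 ≤ (P.S z).index ^ 3 * (1 + p ^ c) ^ 3 := Nat.mul_le_mul_right _ (h2u.trans h4)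
        _ = ((P.S z).index * (1 + p ^ c)) ^ 3 := by rw [mul_pow]
        _ = ch P.n (p ^ a) (p ^ b) ^ 3 := by rw [← hc, FE.index_S, hcc]
    have hx3 := hone v a ha ⟨y, hy⟩
    have hy3 := hone y b hb ⟨w, hw⟩
    have hMd : M ∣ ch P.n (p ^ a) (p ^ b) * (p ^ a * p ^ b) ^ (P.n / 2) * Nat.card ↥(P.H pp) := by
      rw [← hcard]; exact Subgroup.card_subgroup_dvd_card T
    have hHd : Nat.card ↥(P.H pp) ∣ P.T2 v (pp 0) y * P.T2 y v w := by
      have := FE.card_H hpp
      rwa [h1, h2, h3] at this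
    have hfin := hNum (n := P.n) (p := p) (a := a) (b := b) (h := Nat.card ↥(P.H pp)) (M := M) (u := u) P.hn hp ha1 hb1
      (fun h => by
        have h4 := N.hig48 h (P.tp v)
        have h5 := N.hig48 h (P.tp y)
        rw [← htp, ha, hb] at h4
        rw [show (!P.tp y) = P.tp v by rw [htp, Bool.not_not], ha, hb] at h5
        exact ⟨h4, h5⟩)
      (fun h => by
        have h4 := N.hig6 h (P.tp v)
        have h5 := N.hig6 h (P.tp y)
        rw [← htp, ha, hb] at h4
        rw [show (!P.tp y) = P.tp v by rw [htp, Bool.not_not], ha, hb] at h5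
        exact ⟨h4, h5⟩)
      (fun h => by
        have h4 := N.fh4 h
        rw [← ha, ← hb, htp]
        cases hv : P.tp v
        · rw [Bool.not_false, add_comm]
          convert h4 using 1
          ring
        · rw [Bool.not_true]; exact h4)
      (fun h => by
        obtain ⟨g, hg, -⟩ := N.fh6 h
        exact ⟨g, by rw [← hst, hg]⟩)
      (fun h => by
        obtain ⟨g, hg, -⟩ := N.fh8 h
        exact ⟨g, by rw [mul_assoc, ← hst, ← mul_assoc, hg]⟩)
      hSpec hy2 hHd Nat.card_pos Nat.card_pos hM0 hx3 hy3 hMd hueq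
    rcases hfin with h | ⟨x, hx, hxn, hxp, hxh, hxst⟩
    · exact h
    · have hchx : ch x.1 x.2.1 x.2.2.1 = ch P.n (p ^ a) (p ^ b) := by
        rw [hxn]
        rcases hxst with ⟨e1, e2⟩ | ⟨e1, e2⟩
        · rw [e1, e2]
        · rw [e1, e2, ch_comm]
      have hstx : x.2.1 * x.2.2.1 = p ^ a * p ^ b := by
        rcases hxst with ⟨e1, e2⟩ | ⟨e1, e2⟩
        · rw [e1, e2]
        · rw [e1, e2, mul_comm]
      have hcd : ch P.n (p ^ a) (p ^ b) ∣ M := by
        rw [← hcc, ← FE.index_B hy]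
        rw [index_eq_of_sup (htr hy)]
        exact Subgroup.relIndex_dvd_card _ _
      have hres := hSmall ↥T hna x hx u (by rw [hchx]; exact hcd)
        (by rw [hchx, hstx, hxn]; exact hMd.trans (Nat.mul_dvd_mul_left _ hxh))
        (by
          rw [hstx, hxn, hxp, hueq]
          exact Nat.le_mul_of_pos_right _ (Nat.pow_pos hp.pos))
        (hule.trans hidx)
        (by
          rw [hchx]
          rcases hxst with ⟨e1, e2⟩ | ⟨e1, e2⟩
          · rw [e1]; exact hx3
          · rw [e1]; exact hy3)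
        (by
          rw [hchx]
          rcases hxst with ⟨e1, e2⟩ | ⟨e1, e2⟩
          · rw [e2]; exact hy3
          · rw [e2]; exact hx3)
      rw [hxp] at hres
      exact hres

end Cfsg.Agent.H873.Tits
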