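import Mathlib

/-!
# S3414: strongly transitive thick generalized n-gons (n = 4, 6, 8) as graphs with paths

Common definitions of the team S3414.  Both vertex types are treated by ONE set of lemmas (`tp : V → Bool`).
-/

set_option autoImplicit false

namespace Cfsg.Agent.H873.Tits

universe u v

/-- `p 0, ..., p k` is a non-stammering path of length `k`. -/
def IsPath {V : Type v} (adj : V → V → Prop) (k : ℕ) (p : ℕ → V) : Prop :=
  (∀ i, i < k → adj (p i) (p (i + 1))) ∧ ∀ i, i + 1 < k → p (i + 2) ≠ p i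

/-- A strongly transitive thick generalized `n`-gon, `n = 4, 6, 8`, with a faithful type preserving action. -/
structure Pol (G : Type u) [Group G] (V : Type v) [MulAction G V] where
  n : ℕ
  hn : n = 4 ∨ n = 6 ∨ n = 8
  /-- valency minus one of the vertices of the given type -/
  q : Bool → ℕ
  two_le : ∀ b, 2 ≤ q b
  tp : V → Bool
  adj : V → V → Prop
  nonempty : Nonempty V
  symm : ∀ {v w : V}, adj v w → adj w v
  tp_adj : ∀ {v w : V}, adj v w → tp w = !tp v
  smul_adj : ∀ (g : G) {v w : V}, adj v w → adj (g • v) (g • w)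
  smul_tp : ∀ (g : G) (v : V), tp (g • v) = tp v
  card_nb : ∀ v : V, Nat.card {w : V // adj v w} = q (tp v) + 1
  exists_path : ∀ v w : V, ∃ k, k ≤ n ∧ ∃ p : ℕ → V, IsPath adj k p ∧ p 0 = v ∧ p k = w
  path_unique : ∀ {k l : ℕ} {p p' : ℕ → V}, IsPath adj k p → IsPath adj l p' → p 0 = p' 0 → p k = p' l →
    k + l < 2 * n → k = l ∧ ∀ i, i ≤ k → p i = p' i
  trans : ∀ {k : ℕ} {p p' : ℕ → V}, k ≤ n + 1 → IsPath adj k p → IsPath adj k p' → tp (p 0) = tp (p' 0) →
    ∃ g : G, ∀ i, i ≤ k → g • p i = p' i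
  faithful : ∀ g : G, (∀ v : V, g • v = v) → g = 1

namespace Pol

variable {G : Type u} [Group G] {V : Type v} [MulAction G V] (P : Pol G V)

/-- the set of neighbours -/
def nb (v : V) : Set V := {w | P.adj v w}

/-- stabilizer of a vertex -/
abbrev S (_P : Pol G V) (v : V) : Subgroup G := MulAction.stabilizer G v

/-- the kernel of `S v` on the neighbours of `v` -/
def K (v : V) : Subgroup G where
  carrier := {g | g • v = v ∧ ∀ w, P.adj v w → g • w = w}
  mul_mem' := by
    rintro a b ⟨ha, ha'⟩ ⟨hb, hb'⟩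
    exact ⟨by rw [mul_smul, hb, ha], fun w hw => by rw [mul_smul, hb' w hw, ha' w hw]⟩
  one_mem' := ⟨one_smul _ _, fun w _ => one_smul _ _⟩
  inv_mem' := by
    rintro a ⟨ha, ha'⟩
    exact ⟨by rw [inv_smul_eq_iff, ha], fun w hw => by rw [inv_smul_eq_iff, ha' w hw]⟩

theorem mem_K {v : V} {g : G} : g ∈ P.K v ↔ g • v = v ∧ ∀ w, P.adj v w → g • w = w := Iff.rfl

theorem K_le_S (v : V) : P.K v ≤ P.S v := fun _ h => h.1

theorem adj_smul_iff (g : G) {v w : V} : P.adj (g • v) (g • w) ↔ P.adj v w := by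
  constructor
  · intro h
    have := P.smul_adj g⁻¹ h
    rwa [inv_smul_smul, inv_smul_smul] at this
  · exact P.smul_adj g

/-- opposite vertices: joined by a path of length `n` -/
def Opp (v w : V) : Prop := ∃ p : ℕ → V, IsPath P.adj P.n p ∧ p 0 = v ∧ p P.n = w

/-- the pointwise stabilizer of `p 0, ..., p k` -/
def PS (_P : Pol G V) (k : ℕ) (p : ℕ → V) : Subgroup G := ⨅ i : {i : ℕ // i ≤ k}, MulAction.stabilizer G (p i)

/-- `H p`: pointwise stabilizer of a path of length `n + 1` (= stabilizer of the apartment) -/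
def H (p : ℕ → V) : Subgroup G := P.PS (P.n + 1) p

/-- the action of `S v` on the neighbours of `v` -/
def toPerm (v : V) : P.S v →* Equiv.Perm {w : V // P.adj v w} where
  toFun g := ⟨fun w => ⟨(g : G) • w.1, by
      have := P.smul_adj (g : G) w.2
      rwa [show (g : G) • v = v from g.2] at this⟩, fun w => ⟨(g : G)⁻¹ • w.1, by
      have := P.smul_adj (g : G)⁻¹ w.2
      rwa [inv_smul_eq_iff.2 (show v = (g : G) • v from g.2.symm)] at this⟩,
      fun w => Subtype.ext (inv_smul_smul _ _), fun w => Subtype.ext (smul_inv_smul _ _)⟩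
  map_one' := by ext w; simp
  map_mul' a b := by ext w; simp [mul_smul]

@[simp] theorem toPerm_apply (v : V) (g : P.S v) (w : {w : V // P.adj v w}) :
    ((P.toPerm v g w : {w : V // P.adj v w}) : V) = (g : G) • (w : V) := rfl

/-- `img v X`: the permutation group induced by `X ⊓ S v` on the neighbours of `v` -/
def img (v : V) (X : Subgroup G) : Subgroup (Equiv.Perm {w : V // P.adj v w}) :=
  (X.subgroupOf (P.S v)).map (P.toPerm v)

/-- the local permutation group `L v` on the neighbours of `v` -/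
def L (v : V) : Subgroup (Equiv.Perm {w : V // P.adj v w}) := P.img v (P.S v)

/-- `L' v`: the group induced by `S v ⊓ S v'` (`v'` opposite `v`) -/
def L' (v v' : V) : Subgroup (Equiv.Perm {w : V // P.adj v w}) := P.img v (P.S v ⊓ P.S v')

/-- `idx v v' = |L v : L' v|` -/
noncomputable def idx (v v' : V) : ℕ := (P.L' v v').relIndex (P.L v)

/-- order of the two point stabilizer of `L v` at `y, z` -/
noncomputable def T2 (v y z : V) : ℕ := Nat.card (P.img v (P.S y ⊓ P.S z))

end Pol

/-- `Aff L`: there is a regular abelian normal subgroup -/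
def Aff {Ω : Type v} (L : Subgroup (Equiv.Perm Ω)) : Prop :=
  ∃ W : Subgroup (Equiv.Perm Ω), W ≤ L ∧ (W.subgroupOf L).Normal ∧ IsMulCommutative W ∧
    MulAction.IsPretransitive W Ω ∧ ∀ a : Ω, MulAction.stabilizer W a = ⊥

/-- Case (A) of the Thompson-Wielandt theorem. -/
structure CaseA {G : Type u} [Group G] {V : Type v} [MulAction G V] (P : Pol G V) (p : ℕ) : Prop where
  prime : p.Prime
  /-- `E = K x ⊓ K y` is a `p`-group -/
  pgroup : ∀ {x y : V}, P.adj x y → IsPGroup p ↥(P.K x ⊓ P.K y)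
  /-- for adjacent `x, y` there is a normal `p`-subgroup `Q` of `S y` with `Q ≤ K y`, `¬ Q ≤ K x` -/
  big : ∀ {x y : V}, P.adj x y → ∃ Q : Subgroup G, Q ≤ P.K y ∧ (Q.subgroupOf (P.S y)).Normal ∧ IsPGroup p ↥Q ∧ ¬ Q ≤ P.K x

/-- Case (B) of the Thompson-Wielandt theorem, at the vertices `y` of type `b`. -/
structure CaseB {G : Type u} [Group G] {V : Type v} [MulAction G V] (P : Pol G V) (b : Bool) : Prop where
  /-- `E = K x ⊓ K y` is the kernel on the ball of radius two about `y` -/
  ball : ∀ {x y z : V}, P.tp y = b → P.adj x y → P.adj z y → P.K x ⊓ P.K y ≤ P.K z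
  /-- `K y` acts semiregularly (modulo `E`) on the vertices at distance two from `y` -/
  semireg : ∀ {w x y : V}, P.tp y = b → P.adj x y → P.adj w x → w ≠ y → P.K y ⊓ P.S w ≤ P.K x

end Cfsg.Agent.H873.Tits
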