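import Cfsg.Agent.H873.Tits.Defs

/-!
# S3414: the list of geometric facts about a strongly transitive generalized polygon

`structure Facts (P : Pol G V) : Prop`.  The geometry team proves `theorem facts (P : Pol G V) : Facts P`
(for finite `G`, `V`); all the other files take `(F : Facts P)` as a hypothesis.

Notation in the comments: `m = n / 2`, `x ~ y` adjacent, `s = q (tp x)`, `t = q (tp y)`, `i_x = idx x x'`,
`k_x = K x ⊓ H p`.
-/

set_option autoImplicit false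

namespace Cfsg.Agent.H873.Tits

universe u v

variable {G : Type u} [Group G] {V : Type v} [MulAction G V]

/-- `w` is on a geodesic from `y` to the opposite vertex `y'` starting with `y, x, w` -/
def Pol.Thru (P : Pol G V) (y x w y' : V) : Prop :=
  ∃ p : ℕ → V, IsPath P.adj P.n p ∧ p 0 = y ∧ p 1 = x ∧ p 2 = w ∧ p P.n = y'

structure Facts (P : Pol G V) : Prop where
  /-- `S v` is 2-transitive on the neighbours of `v` -/
  two_trans : ∀ {v a b a' b' : V}, P.adj v a → P.adj v b → a ≠ b → P.adj v a' → P.adj v b' → a' ≠ b' →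
    ∃ g ∈ P.S v, g • a = a' ∧ g • b = b'
  /-- so is `S v ⊓ S v'`, `v'` opposite `v` -/
  two_trans' : ∀ {v v' a b a' b' : V}, P.Opp v v' → P.adj v a → P.adj v b → a ≠ b → P.adj v a' → P.adj v b' → a' ≠ b' →
    ∃ g ∈ P.S v ⊓ P.S v', g • a = a' ∧ g • b = b'
  opp_symm : ∀ {v w : V}, P.Opp v w → P.Opp w v
  opp_tp : ∀ {v w : V}, P.Opp v w → P.tp w = P.tp v
  exists_opp : ∀ v : V, ∃ v', P.Opp v v'
  /-- every path of length `k ≤ n + 1` extends to a path of length `n + 1` -/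
  extend : ∀ {k : ℕ} {p : ℕ → V}, k ≤ P.n + 1 → IsPath P.adj k p → ∃ p' : ℕ → V, IsPath P.adj (P.n + 1) p' ∧ ∀ i, i ≤ k → p' i = p i
  /-- every path `a - b - c` of length two is in the interior of a path of length `n + 1`
  (at the places `1, 2, 3`) -/
  extend3 : ∀ {a b c : V}, P.adj a b → P.adj b c → a ≠ c → ∃ p : ℕ → V, IsPath P.adj (P.n + 1) p ∧ p 1 = a ∧ p 2 = b ∧ p 3 = c
  /-- PAIR TRANSITIVITY: `S x ⊓ S y ⊓ S z` is transitive on `(Γ(x) - y) × (Γ(z) - y)` -/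
  pair_trans : ∀ {w x y z u w' u' : V}, P.adj x y → P.adj z y → x ≠ z → P.adj x w → w ≠ y → P.adj z u → u ≠ y →
    P.adj x w' → w' ≠ y → P.adj z u' → u' ≠ y → ∃ g ∈ P.S x ⊓ P.S y ⊓ P.S z, g • w = w' ∧ g • u = u'
  /-- the stabilizer of a path of length two `x - y - z` is transitive on `Γ(z) - y` etc.: transitivity on paths of length three -/
  path_trans : ∀ {w x y z w' : V}, P.adj x y → P.adj z y → x ≠ z → P.adj x w → w ≠ y → P.adj x w' → w' ≠ y →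
    ∃ g ∈ P.S x ⊓ P.S y ⊓ P.S z, g • w = w'
  /-- RIGIDITY -/
  rigid : ∀ {p : ℕ → V} {i : ℕ} {g : G}, IsPath P.adj (P.n + 1) p → i ≤ P.n → g ∈ P.K (p i) → g ∈ P.K (p (i + 1)) →
    g ∈ P.H p → g = 1
  /-- `K v ⊓ S v'` fixes all neighbours of `v'` -/
  K_opp : ∀ {v v' : V}, P.Opp v v' → P.K v ⊓ P.S v' ≤ P.K v'
  /-- it fixes every apartment through `v, v'` -/
  K_opp_H : ∀ {v v' : V} {p : ℕ → V}, IsPath P.adj P.n p → p 0 = v → p P.n = v' → P.K v ⊓ P.S v' ≤ P.PS P.n p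
  /-- `|K v ⊓ S v'| = |K v ⊓ H p|` for every vertex `v = p i` of the path -/
  card_k : ∀ {v v' : V} {p : ℕ → V} {i : ℕ}, P.Opp v v' → IsPath P.adj (P.n + 1) p → i ≤ P.n + 1 → p i = v →
    Nat.card ↥(P.K v ⊓ P.S v') = Nat.card ↥(P.K v ⊓ P.H p)
  /-- COUNT 1: `i_x |K x| = s^(m-1) t^m |k_x|` -/
  count_opp : ∀ {v v' : V}, P.Opp v v' → P.idx v v' * Nat.card ↥(P.K v) =
    P.q (P.tp v) ^ (P.n / 2 - 1) * P.q (!P.tp v) ^ (P.n / 2) * Nat.card ↥(P.K v ⊓ P.S v')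
  /-- COUNT 2: `T_x |k_x| = i_x |H|` -/
  count_T2 : ∀ {v v' : V} {p : ℕ → V} {i : ℕ}, P.Opp v v' → IsPath P.adj (P.n + 1) p → i + 2 ≤ P.n + 1 → p (i + 1) = v →
    P.T2 v (p i) (p (i + 2)) * Nat.card ↥(P.K v ⊓ P.H p) = P.idx v v' * Nat.card ↥(P.H p)
  /-- the index of `K x ⊓ S w` in `K x` divides `t`, where `x - y - w` is a path -/
  relIndex_dvd : ∀ {x y w : V}, P.adj x y → P.adj w y → x ≠ w → (P.K x ⊓ P.S w).relIndex (P.K x) ∣ P.q (P.tp y)
  /-- COUNT 3: `|K x ⊓ K w|_r ≤ (t^(m-1) s^(m-2))_r |k_x ⊓ K w|_r` for the path `x = p i, y = p (i+1), w = p (i+2)` -/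
  count_KK : ∀ {r : ℕ} {p : ℕ → V} {i : ℕ}, r.Prime → IsPath P.adj (P.n + 1) p → i + 2 ≤ P.n + 1 →
    (Nat.card ↥(P.K (p i) ⊓ P.K (p (i + 2)))).factorization r ≤
      (P.q (P.tp (p (i + 1))) ^ (P.n / 2 - 1) * P.q (P.tp (p i)) ^ (P.n / 2 - 2)).factorization r +
      (Nat.card ↥(P.K (p i) ⊓ P.K (p (i + 2)) ⊓ P.H p)).factorization r
  /-- COUNT 4 (consequence): `s_r |k_x|_r |K x ⊓ K w|_r ≤ |K x ⊓ S w|_r (i_x)_r |k_x ⊓ K w|_r` -/
  count_main : ∀ {r : ℕ} {p : ℕ → V} {i : ℕ} {x' : V}, r.Prime → IsPath P.adj (P.n + 1) p → i + 2 ≤ P.n + 1 → P.Opp (p i) x' →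
    (P.q (P.tp (p i))).factorization r + (Nat.card ↥(P.K (p i) ⊓ P.H p)).factorization r +
      (Nat.card ↥(P.K (p i) ⊓ P.K (p (i + 2)))).factorization r ≤
    (Nat.card ↥(P.K (p i) ⊓ P.S (p (i + 2)))).factorization r + (P.idx (p i) x').factorization r +
      (Nat.card ↥(P.K (p i) ⊓ P.K (p (i + 2)) ⊓ P.H p)).factorization r
  /-- fixed points: an element of `K y` without fixed vertices at distance two fixes only the vertex `y` of its type -/
  fix_unique : ∀ {y : V} {g : G}, g ∈ P.K y → (∀ x w, P.adj x y → P.adj x w → w ≠ y → g • w ≠ w) →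
    ∀ v, P.tp v = P.tp y → g • v = v → v = y
  /-- connectivity: a subgroup fixing `x`, `y` and normalized by `S x` and `S y` is trivial -/
  core : ∀ {x y : V} (X : Subgroup G), P.adj x y → X ≤ P.S x ⊓ P.S y →
    (∀ g ∈ P.S x, ∀ a ∈ X, g * a * g⁻¹ ∈ X) → (∀ g ∈ P.S y, ∀ a ∈ X, g * a * g⁻¹ ∈ X) → X = ⊥
  /-- projections -/
  proj_exists : ∀ {y x y' : V}, P.Opp y y' → P.adj y x → ∃ w, P.Thru y x w y'
  proj_opp : ∀ {y x w : V}, P.adj y x → P.adj x w → w ≠ y → ∃ y', P.Opp y y' ∧ P.Thru y x w y'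
  proj_fix : ∀ {y x w y' : V} {g : G}, P.Thru y x w y' → g ∈ P.S y → g ∈ P.S x → g ∈ P.S y' → g • w = w
  /-- in case (B): `|E|` divides `t^(m-1) s^(m-2)` -/
  caseB_card : ∀ {b : Bool} {x y : V}, CaseB P b → P.tp y = b → P.adj x y →
    Nat.card ↥(P.K x ⊓ P.K y) ∣ P.q b ^ (P.n / 2 - 1) * P.q (!b) ^ (P.n / 2 - 2)
  /-- in case (B): `k_y = 1` -/
  caseB_k : ∀ {b : Bool} {y y' : V}, CaseB P b → P.tp y = b → P.Opp y y' → P.K y ⊓ P.S y' = ⊥

/-- numerical conditions (Higman's inequality and the Feit-Higman conditions) for the parameters `q true`, `q false` -/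
structure Num (P : Pol G V) : Prop where
  hig48 : (P.n = 4 ∨ P.n = 8) → ∀ b, P.q b ≤ P.q (!b) ^ 2
  hig6 : P.n = 6 → ∀ b, P.q b ≤ P.q (!b) ^ 3
  fh4 : P.n = 4 → (P.q true + P.q false) ∣ 2 * P.q true * P.q false * (1 + P.q true) * (1 + P.q false)
  /-- `n = 6`: `s t = g ^ 2`, `(s + t ± g) ∣ g^2 (1+s) (1+t) (1 + g^2 ± g)` -/
  fh6 : P.n = 6 → ∃ g : ℕ, P.q true * P.q false = g ^ 2 ∧
    (P.q true + P.q false + g) ∣ g ^ 2 * (1 + P.q true) * (1 + P.q false) * (1 + g ^ 2 + g) ∧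
    (P.q true + P.q false - g) ∣ g ^ 2 * (1 + P.q true) * (1 + P.q false) * (1 + g ^ 2 - g)
  /-- `n = 8`: `2 s t = h ^ 2`, ... -/
  fh8 : P.n = 8 → ∃ h : ℕ, 2 * P.q true * P.q false = h ^ 2 ∧
    (P.q true + P.q false) ∣ P.q true * P.q false * (1 + P.q true) * (1 + P.q false) * (1 + (P.q true * P.q false) ^ 2) ∧
    2 * (P.q true + P.q false + h) ∣ P.q true * P.q false * (1 + P.q true) * (1 + P.q false) * (1 + P.q true * P.q false) *
      (1 + P.q true * P.q false + h) ∧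
    2 * (P.q true + P.q false - h) ∣ P.q true * P.q false * (1 + P.q true) * (1 + P.q false) * (1 + P.q true * P.q false) *
      (1 + P.q true * P.q false - h)

end Cfsg.Agent.H873.Tits
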